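import Groth.Agent.H20RepRing.Eigen
import Groth.Agent.H20Comod.OrbitClosure
import Mathlib.RingTheory.MvPolynomial.Basic
import Mathlib.RingTheory.Jacobson.Ring
import Mathlib.RingTheory.IntegralClosure.IsIntegralClosure.Basic
import Mathlib.RingTheory.Ideal.MinimalPrime.Noetherian
import Mathlib.RingTheory.FiniteType
import Mathlib.RingTheory.Noetherian.Basic
import Mathlib.RingTheory.Polynomial.Subring

/-!
Functions that are pointwise polynomials in the eigenvalues of a matrix form a finite module over the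
coefficients of its characteristic polynomial.
-/

set_option autoImplicit false
set_option maxHeartbeats 600000

universe u

open Groth.Agent.H20Comod

namespace Groth.Agent.H20RepRing

noncomputable section

variable {k : Type u} [Field k] [IsAlgClosed k] {B : Type u} [CommRing B] [Algebra k B] [Algebra.FiniteType k B]
  {n : ℕ}

theorem isNilpotent_of_forall_point {x : B} (hx : ∀ h : B →ₐ[k] k, h x = 0) : IsNilpotent x := by
  by_contra hn
  have : Nontrivial (Localization.Away x) := by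
    refine not_subsingleton_iff_nontrivial.1 fun hs => hn ?_
    obtain ⟨⟨_, m, rfl⟩, hm⟩ := (IsLocalization.map_eq_zero_iff (Submonoid.powers x) (Localization.Away x) 1).1
      (Subsingleton.elim _ _)
    exact ⟨m, by simpa using hm⟩
  haveI : Algebra.FiniteType B (Localization.Away x) :=
    IsLocalization.finiteType_of_monoid_fg (Submonoid.powers x) _
  haveI : Algebra.FiniteType k (Localization.Away x) := Algebra.FiniteType.trans (S := B) ‹_› ‹_›
  obtain ⟨g, -⟩ := exists_point_le_ker (k := k) (R := Localization.Away x) (J := ⊥) bot_ne_top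
  have h0 := hx (g.comp (IsScalarTower.toAlgHom k B (Localization.Away x)))
  have hu : IsUnit (g (algebraMap B (Localization.Away x) x)) :=
    (IsLocalization.Away.algebraMap_isUnit x).map g
  exact hu.ne_zero h0

/-- The equations of an ordering of the eigenvalues. -/
def eigIdeal (M : Matrix (Fin n) (Fin n) B) : Ideal (MvPolynomial (Fin n) B) :=
  Ideal.span (Set.range fun m : ℕ =>
    ((M.map (MvPolynomial.C : B → MvPolynomial (Fin n) B)).charpoly -
      ∏ i, (Polynomial.X - Polynomial.C (MvPolynomial.X i))).coeff m)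

theorem mem_eigIdeal (M : Matrix (Fin n) (Fin n) B) (m : ℕ) :
    ((M.map (MvPolynomial.C : B → MvPolynomial (Fin n) B)).charpoly -
      ∏ i, (Polynomial.X - Polynomial.C (MvPolynomial.X i))).coeff m ∈ eigIdeal M :=
  Ideal.subset_span ⟨m, rfl⟩

theorem exists_eigen_order (M : Matrix (Fin n) (Fin n) k) :
    ∃ lam : Fin n → k, M.charpoly = ∏ i, (Polynomial.X - Polynomial.C (lam i)) := by
  have hs := IsAlgClosed.splits M.charpoly
  have hc : M.charpoly.roots.card = n := by
    rw [Polynomial.splits_iff_card_roots.1 hs, Matrix.charpoly_natDegree_eq_dim, Fintype.card_fin]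
  obtain ⟨lam, hlam⟩ : ∃ lam : Fin n → k, (Finset.univ.val.map lam : Multiset k) = M.charpoly.roots := by
    revert hc
    generalize M.charpoly.roots = s
    intro hc
    subst hc
    refine ⟨fun i => s.toList.get (i.cast (Multiset.length_toList _).symm), ?_⟩
    rw [Fin.univ_def]
    show Multiset.map _ (Multiset.ofList (List.finRange _)) = _
    rw [Multiset.map_coe]
    conv_rhs => rw [← Multiset.coe_toList s]
    refine congrArg Multiset.ofList (List.ext_getElem (by simp) fun i h1 h2 => ?_)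
    simp
  refine ⟨lam, ?_⟩
  conv_lhs => rw [hs.eq_prod_roots_of_monic M.charpoly_monic, ← hlam]
  rw [Multiset.map_map]
  rfl

theorem exists_point (M : Matrix (Fin n) (Fin n) B) (h : B →ₐ[k] k) :
    ∃ χ : (MvPolynomial (Fin n) B ⧸ eigIdeal M) →ₐ[k] k,
      ∀ b : B, χ (Ideal.Quotient.mk _ (MvPolynomial.C b)) = h b := by
  obtain ⟨lam, hlam⟩ := exists_eigen_order (M.map h)
  let ψ : MvPolynomial (Fin n) B →ₐ[k] k := MvPolynomial.aevalTower h lam
  have hI : ∀ q ∈ eigIdeal M, ψ q = 0 := by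
    intro q hq
    refine Submodule.span_induction ?_ (map_zero _) (fun a b _ _ ha hb => by rw [map_add, ha, hb, add_zero])
      (fun a b _ hb => by rw [smul_eq_mul, map_mul, hb, mul_zero]) hq
    rintro _ ⟨m, rfl⟩
    rw [← AlgHom.coe_toRingHom, ← Polynomial.coeff_map, Polynomial.map_sub, Polynomial.map_prod,
      ← Matrix.charpoly_map, Matrix.map_map]
    have : (⇑(ψ : MvPolynomial (Fin n) B →+* k) ∘ (MvPolynomial.C : B → MvPolynomial (Fin n) B)) = h :=
      funext fun b => MvPolynomial.aevalTower_C _ _ b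
    rw [this, hlam]
    simp [ψ]
  exact ⟨Ideal.Quotient.liftₐ (eigIdeal M) ψ hI, fun b => MvPolynomial.aevalTower_C _ _ b⟩

theorem point_eigen (M : Matrix (Fin n) (Fin n) B) (χ : (MvPolynomial (Fin n) B ⧸ eigIdeal M) →ₐ[k] k) :
    (M.map fun b => χ (Ideal.Quotient.mk _ (MvPolynomial.C b))).charpoly =
      ∏ i, (Polynomial.X - Polynomial.C (χ (Ideal.Quotient.mk _ (MvPolynomial.X i)))) := by
  let g : MvPolynomial (Fin n) B →+* k := χ.toRingHom.comp (Ideal.Quotient.mk (eigIdeal M))
  have h0 : ((M.map (MvPolynomial.C : B → MvPolynomial (Fin n) B)).charpoly -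
      ∏ i, (Polynomial.X - Polynomial.C (MvPolynomial.X i))).map g = 0 := by
    ext m
    rw [Polynomial.coeff_map, Polynomial.coeff_zero]
    show χ (Ideal.Quotient.mk _ _) = 0
    rw [Ideal.Quotient.eq_zero_iff_mem.2 (mem_eigIdeal M m), map_zero]
  rw [Polynomial.map_sub, sub_eq_zero, Polynomial.map_prod, ← Matrix.charpoly_map, Matrix.map_map] at h0
  simp [g, Function.comp_def] at h0 ⊢
  exact h0

theorem isIntegral_eigen (M : Matrix (Fin n) (Fin n) B) (R₀ : Subalgebra k B)
    (hcoeff : ∀ m, M.charpoly.coeff m ∈ R₀) (i : Fin n) :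
    IsIntegral R₀ (Ideal.Quotient.mk (eigIdeal M) (MvPolynomial.X i)) := by
  have hs : (↑M.charpoly.coeffs : Set B) ⊆ R₀.toSubring := fun c hc => by
    obtain ⟨m, -, rfl⟩ := Polynomial.mem_coeffs_iff.1 hc
    exact hcoeff m
  have hroot : Polynomial.eval₂ ((Ideal.Quotient.mk (eigIdeal M)).comp MvPolynomial.C)
      (Ideal.Quotient.mk (eigIdeal M) (MvPolynomial.X i)) M.charpoly = 0 := by
    rw [← Polynomial.hom_eval₂, Ideal.Quotient.eq_zero_iff_mem, Polynomial.eval₂_eq_eval_map, ← Matrix.charpoly_map]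
    have h0 : (∏ j, (Polynomial.X - Polynomial.C (MvPolynomial.X j : MvPolynomial (Fin n) B))).eval
        (MvPolynomial.X i) = 0 := by
      rw [Polynomial.eval_prod]
      exact Finset.prod_eq_zero (Finset.mem_univ i) (by simp)
    rw [← sub_zero ((M.map (MvPolynomial.C : B → MvPolynomial (Fin n) B)).charpoly.eval (MvPolynomial.X i)), ← h0,
      ← Polynomial.eval_sub, Polynomial.eval_eq_sum_range]
    exact Ideal.sum_mem _ fun m _ => Ideal.mul_mem_right _ _ (mem_eigIdeal M m)
  refine ⟨M.charpoly.toSubring R₀.toSubring hs, (Polynomial.monic_toSubring _ _ hs).2 M.charpoly_monic, ?_⟩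
  have hc : algebraMap R₀ (MvPolynomial (Fin n) B ⧸ eigIdeal M) =
      ((Ideal.Quotient.mk (eigIdeal M)).comp MvPolynomial.C).comp R₀.toSubring.subtype := RingHom.ext fun r => rfl
  rw [hc, ← Polynomial.eval₂_map]
  erw [Polynomial.map_toSubring]
  exact hroot

/-- Elements that are pointwise polynomial expressions of finitely many shapes in the eigenvalues. -/
def EigenPoly (M : Matrix (Fin n) (Fin n) B) (x : B) : Prop :=
  ∃ Ψ : Finset (MvPolynomial (Fin n) k), ∀ (h : B →ₐ[k] k) (lam : Fin n → k),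
    (M.map h).charpoly = ∏ i, (Polynomial.X - Polynomial.C (lam i)) → ∃ q ∈ Ψ, h x = MvPolynomial.aeval lam q

theorem exists_finset_span_aux {C : Type u} [CommRing C] [Algebra k C] [Algebra B C] [IsScalarTower k B C]
    [Algebra.FiniteType k C] [IsReduced B] (R₀ : Subalgebra k B) [IsNoetherianRing R₀] (y : Fin n → C)
    (hint : ∀ i, IsIntegral R₀ (y i)) (hpt : ∀ h : B →ₐ[k] k, ∃ χ : C →ₐ[k] k, ∀ b, χ (algebraMap B C b) = h b)
    (S : Set B) (hS : ∀ x ∈ S, ∃ Ψ : Finset (MvPolynomial (Fin n) k), ∀ χ : C →ₐ[k] k,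
      ∃ q ∈ Ψ, χ (algebraMap B C x) = χ (MvPolynomial.aeval y q)) :
    ∃ F : Finset B, (↑F : Set B) ⊆ S ∧ S ⊆ ↑(Submodule.span R₀ (↑F : Set B)) := by
  haveI : IsNoetherianRing C := Algebra.FiniteType.isNoetherianRing k C
  let Sy : Submodule R₀ C := Subalgebra.toSubmodule (Algebra.adjoin R₀ (Set.range y))
  have hSy : Sy.FG := fg_adjoin_of_finite (Set.finite_range y) (by rintro _ ⟨i, rfl⟩; exact hint i)
  haveI : Finite ↥(minimalPrimes C) := (minimalPrimes.finite_of_isNoetherianRing C).to_subtype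
  let Φ : B →ₗ[R₀] ((Q : ↥(minimalPrimes C)) → C ⧸ (Q : Ideal C)) :=
    LinearMap.pi fun Q => (Ideal.Quotient.mkₐ R₀ (Q : Ideal C)).toLinearMap ∘ₗ
      (IsScalarTower.toAlgHom R₀ B C).toLinearMap
  have hΦ : ∀ b Q, Φ b Q = Ideal.Quotient.mk (Q : Ideal C) (algebraMap B C b) := fun b Q => rfl
  have hΦinj : Function.Injective Φ := by
    rw [injective_iff_map_eq_zero]
    intro b hb
    refine IsReduced.eq_zero b (isNilpotent_of_forall_point (k := k) fun h => ?_)
    obtain ⟨χ, hχ⟩ := hpt h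
    haveI : (RingHom.ker χ.toRingHom).IsPrime := RingHom.ker_isPrime _
    obtain ⟨Q, hQ, hQle⟩ := Ideal.exists_minimalPrimes_le (I := (⊥ : Ideal C))
      (J := RingHom.ker χ.toRingHom) bot_le
    have hb' : algebraMap B C b ∈ Q :=
      Ideal.Quotient.eq_zero_iff_mem.1 ((hΦ b ⟨Q, hQ⟩).symm.trans (congrFun hb ⟨Q, hQ⟩))
    rw [← hχ]
    exact hQle hb'
  let N : Submodule R₀ ((Q : ↥(minimalPrimes C)) → C ⧸ (Q : Ideal C)) :=
    Submodule.pi Set.univ fun Q => Sy.map (Ideal.Quotient.mkₐ R₀ (Q : Ideal C)).toLinearMap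
  have hN : N.FG := Submodule.fg_pi fun Q => hSy.map _
  haveI : IsNoetherian R₀ N := isNoetherian_of_fg_of_noetherian N hN
  have hmem : ∀ x ∈ S, Φ x ∈ N := by
    intro x hx Q _
    obtain ⟨Ψ, hΨ⟩ := hS x hx
    haveI : (Q : Ideal C).IsPrime := Q.2.1.1
    have hnil : IsNilpotent (∏ q ∈ Ψ, (algebraMap B C x - MvPolynomial.aeval y q)) := by
      refine isNilpotent_of_forall_point (k := k) fun χ => ?_
      obtain ⟨q, hq, hxq⟩ := hΨ χ
      rw [map_prod]
      exact Finset.prod_eq_zero hq (by rw [map_sub, hxq, sub_self])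
    obtain ⟨m, hm⟩ := hnil
    obtain ⟨q, -, hqQ⟩ := (Ideal.IsPrime.prod_mem_iff (p := (Q : Ideal C))).1
      (Ideal.IsPrime.mem_of_pow_mem ‹_› m (hm ▸ (Q : Ideal C).zero_mem))
    refine ⟨MvPolynomial.aeval y q, ?_, (Ideal.Quotient.mk_eq_mk_iff_sub_mem _ _).2 hqQ |>.symm⟩
    show MvPolynomial.aeval y q ∈ Algebra.adjoin R₀ (Set.range y)
    clear hqQ
    induction q using MvPolynomial.induction_on with
    | C c =>
      rw [MvPolynomial.aeval_C, IsScalarTower.algebraMap_apply k R₀ C]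
      exact Subalgebra.algebraMap_mem _ _
    | add a b ha hb => rw [map_add]; exact add_mem ha hb
    | mul_X a j ha => rw [map_mul, MvPolynomial.aeval_X]; exact mul_mem ha (Algebra.subset_adjoin ⟨j, rfl⟩)
  have hfg : (Submodule.span R₀ S).FG := by
    refine Submodule.fg_of_fg_map_injective Φ hΦinj (Submodule.FG.of_le_of_isNoetherian (T := N) ?_)
    rw [Submodule.map_span_le]
    exact hmem
  obtain ⟨F, hF, hspan⟩ := Submodule.fg_span_iff_fg_span_finset_subset S |>.1 hfg
  exact ⟨F, hF, fun x hx => hspan ▸ Submodule.subset_span hx⟩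

theorem exists_finset_span [IsReduced B] (M : Matrix (Fin n) (Fin n) B) (R₀ : Subalgebra k B) (hR₀ : R₀.FG)
    (hcoeff : ∀ m, M.charpoly.coeff m ∈ R₀) (S : Set B) (hS : ∀ x ∈ S, EigenPoly (k := k) M x) :
    ∃ F : Finset B, (↑F : Set B) ⊆ S ∧ S ⊆ ↑(Submodule.span R₀ (↑F : Set B)) := by
  haveI : Algebra.FiniteType k R₀ := (Subalgebra.fg_iff_finiteType R₀).1 hR₀
  haveI : IsNoetherianRing R₀ := Algebra.FiniteType.isNoetherianRing k R₀
  haveI : Algebra.FiniteType k (MvPolynomial (Fin n) B ⧸ eigIdeal M) :=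
    (Algebra.FiniteType.trans (R := k) (S := B) (A := MvPolynomial (Fin n) B) ‹_› inferInstance).of_surjective
      (Ideal.Quotient.mkₐ k (eigIdeal M)) Ideal.Quotient.mk_surjective
  refine exists_finset_span_aux (C := MvPolynomial (Fin n) B ⧸ eigIdeal M) R₀
    (fun i => Ideal.Quotient.mk (eigIdeal M) (MvPolynomial.X i)) (isIntegral_eigen M R₀ hcoeff)
    (exists_point M) S fun x hx => ?_
  obtain ⟨Ψ, hΨ⟩ := hS x hx
  refine ⟨Ψ, fun χ => ?_⟩
  obtain ⟨q, hq, hxq⟩ := hΨ (χ.comp (IsScalarTower.toAlgHom k B _))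
    (fun i => χ (Ideal.Quotient.mk (eigIdeal M) (MvPolynomial.X i))) (point_eigen M χ)
  exact ⟨q, hq, hxq.trans (MvPolynomial.comp_aeval_apply _ χ q).symm⟩

end

end Groth.Agent.H20RepRing
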