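import Groth.Agent.H20Comod.Characters
import Mathlib.LinearAlgebra.Eigenspace.Triangularizable
import Mathlib.LinearAlgebra.Eigenspace.Charpoly
import Mathlib.LinearAlgebra.Matrix.Charpoly.Eigs
import Mathlib.RingTheory.Bialgebra.Hom

/-!
Eigenvalues of representations are monomials in the eigenvalues of a faithful representation.
-/

set_option autoImplicit false
set_option maxHeartbeats 400000

universe u

open TensorProduct Groth.Agent.H20Comod

namespace Groth.Agent.H20RepRing

noncomputable section

variable {k : Type u} [Field k] {B : Type u} [CommRing B] [HopfAlgebra k B] {n : ℕ}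

/-- Right translation by a point. -/
def transl (h : B →ₐ[k] k) : B →ₐ[k] B :=
  ((Algebra.TensorProduct.rid k k B).toAlgHom.comp (Algebra.TensorProduct.map (AlgHom.id k B) h)).comp
    (Bialgebra.comulAlgHom k B)

theorem transl_mat {ι : Type} [Fintype ι] [DecidableEq ι] {a : ι → ι → B} (ha : IsMat (k := k) a) (h : B →ₐ[k] k)
    (i j : ι) : transl h (a i j) = ∑ l, h (a l j) • a i l := by
  simp [transl, ha.comul]

/-- The substitution `X ↦ X · M(h)`. -/
def rightSubst (M : Matrix (Fin n) (Fin n) B) (h : B →ₐ[k] k) :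
    MvPolynomial (Fin n × Fin n) k →ₐ[k] MvPolynomial (Fin n × Fin n) k :=
  MvPolynomial.aeval fun p : Fin n × Fin n => ∑ l, h (M l p.2) • MvPolynomial.X (p.1, l)

theorem aeval_rightSubst {M : Matrix (Fin n) (Fin n) B} (hM : IsMat (k := k) fun i j => M i j) (h : B →ₐ[k] k)
    (q : MvPolynomial (Fin n × Fin n) k) :
    MvPolynomial.aeval (fun p : Fin n × Fin n => M p.1 p.2) (rightSubst M h q) =
      transl h (MvPolynomial.aeval (fun p : Fin n × Fin n => M p.1 p.2) q) := by
  have : (MvPolynomial.aeval (fun p : Fin n × Fin n => M p.1 p.2)).comp (rightSubst M h) =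
      (transl h).comp (MvPolynomial.aeval fun p : Fin n × Fin n => M p.1 p.2) := by
    apply MvPolynomial.algHom_ext
    rintro ⟨i, j⟩
    simp [rightSubst, transl_mat hM h i j]
  exact AlgHom.congr_fun this q

theorem mul_mem_maxGenEigenspace {P : Type u} [CommRing P] [Algebra k P] (R : P →ₐ[k] P) {μ ν : k} {x y : P}
    (hx : x ∈ Module.End.maxGenEigenspace R.toLinearMap μ) (hy : y ∈ Module.End.maxGenEigenspace R.toLinearMap ν) :
    x * y ∈ Module.End.maxGenEigenspace R.toLinearMap (μ * ν) := by
  rw [Module.End.mem_maxGenEigenspace] at hx hy ⊢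
  obtain ⟨a, hx⟩ := hx
  obtain ⟨b, hy⟩ := hy
  refine ⟨a + b, ?_⟩
  suffices key : ∀ (m a b : ℕ) (x y : P), a + b ≤ m → ((R.toLinearMap - μ • 1) ^ a) x = 0 →
      ((R.toLinearMap - ν • 1) ^ b) y = 0 → ((R.toLinearMap - (μ * ν) • 1) ^ m) (x * y) = 0 from
    key _ a b x y le_rfl hx hy
  intro m
  induction m with
  | zero =>
    intro a b x y hab hx hy
    obtain ⟨rfl, rfl⟩ : a = 0 ∧ b = 0 := by omega
    simp only [pow_zero, Module.End.one_apply] at hx ⊢
    rw [hx, zero_mul]
  | succ m ih =>
    intro a b x y hab hx hy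
    rcases a with _ | a
    · rw [show x = 0 from hx, zero_mul, map_zero]
    rcases b with _ | b
    · rw [show y = 0 from hy, mul_zero, map_zero]
    rw [pow_succ, Module.End.mul_apply] at hx hy ⊢
    have e : (R.toLinearMap - (μ * ν) • 1) (x * y) =
        (R.toLinearMap - μ • 1) x * R y + μ • (x * (R.toLinearMap - ν • 1) y) := by
      simp only [LinearMap.sub_apply, LinearMap.smul_apply, Module.End.one_apply, AlgHom.toLinearMap_apply, map_mul]
      simp only [Algebra.smul_def, map_mul]
      ring
    have hc : ((R.toLinearMap - ν • 1) ^ (b + 1)) (R y) = 0 := by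
      have hcomm : Commute ((R.toLinearMap - ν • 1) ^ (b + 1)) R.toLinearMap :=
        ((Commute.refl R.toLinearMap).sub_left ((Commute.one_left R.toLinearMap).smul_left ν)).pow_left _
      have := LinearMap.congr_fun hcomm.eq y
      simp only [Module.End.mul_apply, AlgHom.toLinearMap_apply] at this
      rw [this, pow_succ, Module.End.mul_apply, hy, map_zero]
    rw [e, map_add, map_smul, ih a (b + 1) _ _ (by omega) hx hc, zero_add]
    rw [ih (a + 1) b _ _ (by omega) (by rw [pow_succ, Module.End.mul_apply]; exact hx) hy, smul_zero]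

/-- Sum of generalised eigenspaces for monomials in `lam` with exponents at most `D`. -/
def monGen (T : Module.End k (MvPolynomial (Fin n × Fin n) k)) (lam : Fin n → k) (D : ℕ) :
    Submodule k (MvPolynomial (Fin n × Fin n) k) :=
  ⨆ e : {e : Fin n → ℕ // ∀ i, e i ≤ D}, T.maxGenEigenspace (∏ i, lam i ^ e.1 i)

theorem monGen_mono (T : Module.End k (MvPolynomial (Fin n × Fin n) k)) (lam : Fin n → k) {D D' : ℕ} (h : D ≤ D') :
    monGen T lam D ≤ monGen T lam D' :=
  iSup_le fun e => le_iSup (fun e : {e : Fin n → ℕ // ∀ i, e i ≤ D'} => T.maxGenEigenspace (∏ i, lam i ^ e.1 i))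
    ⟨e.1, fun i => (e.2 i).trans h⟩

variable [IsAlgClosed k]

theorem X_mem_iSup (M : Matrix (Fin n) (Fin n) B) (h : B →ₐ[k] k) (lam : Fin n → k)
    (hlam : (M.map h).charpoly = ∏ i, (Polynomial.X - Polynomial.C (lam i))) (p : Fin n × Fin n) :
    (MvPolynomial.X p : MvPolynomial (Fin n × Fin n) k) ∈
      ⨆ i : Fin n, Module.End.maxGenEigenspace (rightSubst M h).toLinearMap (lam i) := by
  let L : (Fin n → k) →ₗ[k] MvPolynomial (Fin n × Fin n) k :=
    ∑ l, (LinearMap.toSpanSingleton k _ (MvPolynomial.X (p.1, l))) ∘ₗ LinearMap.proj l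
  have hL : ∀ w, L w = ∑ l, w l • MvPolynomial.X (p.1, l) := fun w => by simp [L]
  let A : Module.End k (Fin n → k) := Matrix.toLin' (M.map h)
  have hRL : (rightSubst M h).toLinearMap ∘ₗ L = L ∘ₗ A := by
    apply LinearMap.ext
    intro w
    show rightSubst M h (L w) = L (A w)
    rw [hL, hL, map_sum]
    simp only [map_smul, rightSubst, MvPolynomial.aeval_X, Finset.smul_sum, smul_smul, A, Matrix.toLin'_apply,
      Matrix.mulVec, dotProduct, Matrix.map_apply, Finset.sum_smul]
    rw [Finset.sum_comm]
    exact Finset.sum_congr rfl fun _ _ => Finset.sum_congr rfl fun _ _ => by rw [mul_comm]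
  have key : ∀ (μ : k) (N : ℕ) (w : Fin n → k),
      (((rightSubst M h).toLinearMap - μ • 1) ^ N) (L w) = L (((A - μ • 1) ^ N) w) := by
    intro μ N
    induction N with
    | zero => simp
    | succ N ih =>
      intro w
      rw [pow_succ, pow_succ, Module.End.mul_apply, Module.End.mul_apply, ← ih]
      congr 1
      have := LinearMap.congr_fun hRL w
      simp only [LinearMap.comp_apply] at this
      simp [this]
  have hX : (MvPolynomial.X p : MvPolynomial (Fin n × Fin n) k) = L (Pi.single p.2 1) := by
    rw [hL, Finset.sum_eq_single p.2 (fun l _ hl => by simp [hl]) (fun hn => absurd (Finset.mem_univ _) hn)]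
    simp
  rw [hX]
  have htop : (Pi.single p.2 1 : Fin n → k) ∈ ⨆ μ : k, A.maxGenEigenspace μ := by
    rw [Module.End.iSup_maxGenEigenspace_eq_top]; trivial
  revert htop
  generalize (Pi.single p.2 1 : Fin n → k) = w
  intro htop
  induction htop using Submodule.iSup_induction' with
  | zero => rw [map_zero]; exact zero_mem _
  | add x y _ _ hx hy => rw [map_add]; exact add_mem hx hy
  | mem μ x hx =>
    by_cases hx0 : x = 0
    · rw [hx0, map_zero]; exact zero_mem _
    have hev : A.HasEigenvalue μ := by
      have h1 : A.HasUnifEigenvalue μ ⊤ := fun hb => hx0 ((Submodule.mem_bot k).1 (hb ▸ hx))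
      exact (Module.End.hasUnifEigenvalue_iff_hasUnifEigenvalue_one (by simp)).1 h1
    have hr : (M.map h).charpoly.IsRoot μ := by
      have := (Module.End.hasEigenvalue_iff_isRoot_charpoly A μ).1 hev
      rwa [Matrix.charpoly_toLin'] at this
    rw [hlam, Polynomial.IsRoot.def, Polynomial.eval_prod, Finset.prod_eq_zero_iff] at hr
    obtain ⟨i, -, hi⟩ := hr
    rw [Polynomial.eval_sub, Polynomial.eval_X, Polynomial.eval_C, sub_eq_zero] at hi
    obtain ⟨N, hN⟩ := (Module.End.mem_maxGenEigenspace _ _ _).1 hx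
    refine Submodule.mem_iSup_of_mem i ((Module.End.mem_maxGenEigenspace _ _ _).2 ⟨N, ?_⟩)
    rw [key, ← hi, hN, map_zero]

theorem exists_mem_monGen (M : Matrix (Fin n) (Fin n) B) (q : MvPolynomial (Fin n × Fin n) k) :
    ∃ D : ℕ, ∀ (h : B →ₐ[k] k) (lam : Fin n → k), (M.map h).charpoly = ∏ i, (Polynomial.X - Polynomial.C (lam i)) →
      q ∈ monGen (rightSubst M h).toLinearMap lam D := by
  induction q using MvPolynomial.induction_on with
  | C c =>
    refine ⟨0, fun h lam _ => Submodule.mem_iSup_of_mem ⟨0, fun i => le_rfl⟩ ?_⟩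
    refine (Module.End.mem_maxGenEigenspace _ _ _).2 ⟨1, ?_⟩
    simp [rightSubst]
  | add p q hp hq =>
    obtain ⟨a, ha⟩ := hp
    obtain ⟨b, hb⟩ := hq
    exact ⟨max a b, fun h lam hl => add_mem (monGen_mono _ _ (le_max_left _ _) (ha h lam hl))
      (monGen_mono _ _ (le_max_right _ _) (hb h lam hl))⟩
  | mul_X p i hp =>
    obtain ⟨D, hD⟩ := hp
    refine ⟨D + 1, fun h lam hl => ?_⟩
    have h1 := hD h lam hl
    have h2 := X_mem_iSup M h lam hl i
    clear hD
    generalize (MvPolynomial.X i : MvPolynomial (Fin n × Fin n) k) = z at h2 ⊢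
    induction h1 using Submodule.iSup_induction' with
    | zero => rw [zero_mul]; exact zero_mem _
    | add x y _ _ hx hy => rw [add_mul]; exact add_mem hx hy
    | mem e x hx =>
      induction h2 using Submodule.iSup_induction' with
      | zero => rw [mul_zero]; exact zero_mem _
      | add y z _ _ hy hz => rw [mul_add]; exact add_mem hy hz
      | mem j y hy =>
        refine Submodule.mem_iSup_of_mem ⟨e.1 + Pi.single j 1, fun l => ?_⟩ ?_
        · have := e.2 l
          simp only [Pi.add_apply, Pi.single_apply]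
          split_ifs <;> omega
        · have he : ∏ l, lam l ^ (e.1 + Pi.single j 1 : Fin n → ℕ) l = (∏ l, lam l ^ e.1 l) * lam j := by
            simp only [Pi.add_apply, pow_add, Finset.prod_mul_distrib]
            congr 1
            rw [Finset.prod_eq_single j (fun l _ hl => by simp [hl]) (fun hn => absurd (Finset.mem_univ _) hn)]
            simp
          show _ ∈ Module.End.maxGenEigenspace _ (∏ l, lam l ^ (e.1 + Pi.single j 1 : Fin n → ℕ) l)
          rw [he]
          exact mul_mem_maxGenEigenspace _ hx hy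

/-- Eigenvalues in any representation are monomials of bounded degree in those of a generating one. -/
theorem exists_bound_eigen (M : Matrix (Fin n) (Fin n) B) (hM : IsMat (k := k) fun i j => M i j)
    (hgen : Algebra.adjoin k (Set.range fun p : Fin n × Fin n => M p.1 p.2) = ⊤) {d : ℕ}
    (a : Matrix (Fin d) (Fin d) B) (ha : IsMat (k := k) fun i j => a i j) :
    ∃ D : ℕ, ∀ (h : B →ₐ[k] k) (lam : Fin n → k), (M.map h).charpoly = ∏ i, (Polynomial.X - Polynomial.C (lam i)) →
      ∀ μ ∈ (a.map h).charpoly.roots, ∃ e : Fin n → ℕ, (∀ i, e i ≤ D) ∧ μ = ∏ i, lam i ^ e i := by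
  let ev : MvPolynomial (Fin n × Fin n) k →ₐ[k] B := MvPolynomial.aeval fun p => M p.1 p.2
  have hsurj : ∀ b, ∃ q, ev q = b := fun b => by
    have : b ∈ (MvPolynomial.aeval fun p : Fin n × Fin n => M p.1 p.2).range (R := k) := by
      rw [← Algebra.adjoin_range_eq_range_aeval, hgen]; trivial
    exact this
  choose q hq using fun p : Fin d × Fin d => hsurj (a p.1 p.2)
  choose Ds hDs using fun p : Fin d × Fin d => exists_mem_monGen M (q p)
  refine ⟨Finset.univ.sup Ds, fun h lam hl μ hμ => ?_⟩
  have hev : Module.End.HasEigenvalue (Matrix.toLin' (a.map h)) μ := by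
    rw [Module.End.hasEigenvalue_iff_isRoot_charpoly, Matrix.charpoly_toLin']
    exact Polynomial.isRoot_of_mem_roots hμ
  obtain ⟨v, hv⟩ := hev.exists_hasEigenvector
  have hv' : ∀ l, ∑ j, h (a l j) * v j = μ * v l := fun l => by
    have := congrFun hv.apply_eq_smul l
    simpa [Matrix.toLin'_apply, Matrix.mulVec, dotProduct] using this
  obtain ⟨i, hi⟩ := Function.ne_iff.1 hv.2
  let f : B := ∑ j, v j • a i j
  have hf0 : f ≠ 0 := fun h0 => hi (by
    have := congrArg (CoalgebraStruct.counit (R := k) (A := B)) h0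
    simpa [f, ha.counit] using this)
  have hfT : f ∈ Module.End.maxGenEigenspace (transl h).toLinearMap μ := by
    refine (Module.End.mem_maxGenEigenspace _ _ _).2 ⟨1, ?_⟩
    rw [pow_one, LinearMap.sub_apply, sub_eq_zero, LinearMap.smul_apply, Module.End.one_apply,
      AlgHom.toLinearMap_apply]
    simp only [f, map_sum, map_smul, transl_mat ha h i, Finset.smul_sum, smul_smul]
    rw [Finset.sum_comm]
    refine Finset.sum_congr rfl fun l _ => ?_
    rw [← Finset.sum_smul, ← hv' l]
    exact congrArg (· • a i l) (Finset.sum_congr rfl fun j _ => mul_comm _ _)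
  by_contra hne
  push Not at hne
  have hmem : f ∈ ⨆ e : {e : Fin n → ℕ // ∀ i, e i ≤ Finset.univ.sup Ds},
      Module.End.maxGenEigenspace (transl h).toLinearMap (∏ i, lam i ^ e.1 i) := by
    refine Submodule.sum_mem _ fun j _ => Submodule.smul_mem _ _ ?_
    rw [← hq (i, j)]
    have := monGen_mono _ lam (Finset.le_sup (f := Ds) (Finset.mem_univ (i, j))) (hDs (i, j) h lam hl)
    revert this
    generalize q (i, j) = p
    intro hp
    induction hp using Submodule.iSup_induction' with
    | zero => rw [map_zero]; exact zero_mem _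
    | add x y _ _ hx hy => rw [map_add]; exact add_mem hx hy
    | mem e x hx =>
      obtain ⟨N, hN⟩ := (Module.End.mem_maxGenEigenspace _ _ _).1 hx
      refine Submodule.mem_iSup_of_mem e ((Module.End.mem_maxGenEigenspace _ _ _).2 ⟨N, ?_⟩)
      have key : ∀ (c : k) (N : ℕ) (x : MvPolynomial (Fin n × Fin n) k),
          (((transl h).toLinearMap - c • 1) ^ N) (ev x) = ev ((((rightSubst M h).toLinearMap - c • 1) ^ N) x) := by
        intro c N
        induction N with
        | zero => simp
        | succ N ih =>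
          intro x
          rw [pow_succ, pow_succ, Module.End.mul_apply, Module.End.mul_apply, ← ih]
          congr 1
          simp [ev, aeval_rightSubst hM h x]
      rw [key, hN, map_zero]
  have hdisj : Disjoint (Module.End.maxGenEigenspace (transl h).toLinearMap μ)
      (⨆ e : {e : Fin n → ℕ // ∀ i, e i ≤ Finset.univ.sup Ds},
        Module.End.maxGenEigenspace (transl h).toLinearMap (∏ i, lam i ^ e.1 i)) := by
    refine ((Module.End.independent_maxGenEigenspace (transl h).toLinearMap) μ).mono_right (iSup_le fun e => ?_)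
    exact le_iSup₂_of_le (∏ i, lam i ^ e.1 i) (fun he => hne e.1 e.2 he.symm) le_rfl
  exact hf0 (Submodule.disjoint_def.1 hdisj f hfT hmem)

end

end Groth.Agent.H20RepRing
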