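import Groth.Agent.H20Comod.ClassFun
import Groth.Agent.H20Comod.GLIntegral
import Groth.Prelude.Def_GLin4
import Mathlib.LinearAlgebra.Matrix.Charpoly.Basic
import Mathlib.RingTheory.Bialgebra.Hom

/-!
Coefficients of the characteristic polynomial of the general linear group are characters; a block matrix
generating the coordinate ring.
-/

set_option autoImplicit false

universe u v w

open TensorProduct HopfRep Groth.Agent.H20Comod CoordGrp

namespace Groth.Agent.H20RepRing

noncomputable section

theorem isMat_map {k : Type u} [CommRing k] {A B : Type v} [CommRing A] [HopfAlgebra k A] [CommRing B]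
    [HopfAlgebra k B] (f : A →ₐc[k] B) {ι : Type w} [Fintype ι] [DecidableEq ι] {a : ι → ι → A}
    (ha : IsMat (k := k) a) : IsMat (k := k) fun i j => f (a i j) := by
  refine ⟨fun i j => ?_, fun i j => ?_⟩
  · rw [← CoalgHomClass.map_comp_comul_apply f, ha.comul, map_sum]
    rfl
  · rw [CoalgHomClass.counit_comp_apply f, ha.counit]

theorem isMat_reindex {k : Type u} [CommRing k] {A : Type v} [CommRing A] [HopfAlgebra k A] {ι κ : Type w}
    [Fintype ι] [DecidableEq ι] [Fintype κ] [DecidableEq κ] (e : ι ≃ κ) {a : ι → ι → A} (ha : IsMat (k := k) a) :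
    IsMat (k := k) fun i j => a (e.symm i) (e.symm j) := by
  refine ⟨fun i j => ?_, fun i j => ?_⟩
  · rw [ha.comul]
    exact (e.symm.sum_comp fun l => a (e.symm i) l ⊗ₜ[k] a l (e.symm j)).symm
  · rw [ha.counit]
    simp

theorem charOf_mem_of_isMat {k : Type u} [Field k] {A : Type u} [CommRing A] [HopfAlgebra k A] {d : ℕ}
    {a : Fin d → Fin d → A} (ha : IsMat (k := k) a) : ∑ i, a i i ∈ charSet k A := by
  obtain ⟨C, hC⟩ := exists_comod_of_isMat ha
  refine ⟨⟨d, C⟩, Finset.sum_congr rfl fun p _ => ?_⟩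
  rw [hC, map_sum, map_sum]
  rw [Finset.sum_eq_single p (fun x _ hx => by simp [hx.symm]) (fun h => absurd (Finset.mem_univ p) h)]
  simp

theorem map_charSet {k : Type u} [Field k] {A B : Type u} [CommRing A] [HopfAlgebra k A] [CommRing B]
    [HopfAlgebra k B] (f : A →ₐc[k] B) {x : A} (hx : x ∈ charSet k A) : f x ∈ charSet k B := by
  obtain ⟨⟨d, c⟩, rfl⟩ := hx
  show f (charOf k A c) ∈ _
  rw [charOf_eq, map_sum]
  letI := c
  exact charOf_mem_of_isMat (isMat_map f (isMat_matB _))

variable {n : ℕ} {k : Type u} [Field k]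

theorem isMat_genMat : IsMat (k := k) fun i j => GLn.genMat n k i j :=
  ⟨fun i j => GLn.comul_X i j, fun i j => GLn.counit_X i j⟩

theorem charpoly_coeff_conj (m : ℕ) :
    conjHom k (GLn n k) ((GLn.genMat n k).charpoly.coeff m) = 1 ⊗ₜ[k] (GLn.genMat n k).charpoly.coeff m := by
  let G := GLn.genMat n k
  let inL : GLn n k →ₐ[k] GLn n k ⊗[k] GLn n k := Algebra.TensorProduct.includeLeft
  let inR : GLn n k →ₐ[k] GLn n k ⊗[k] GLn n k := Algebra.TensorProduct.includeRight
  let P := G.map inL
  let R := G.map inR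
  let Q := G.map fun x => inL (HopfAlgebra.antipode k x)
  have hQP : Q * P = 1 := by
    ext i j
    simp only [Q, P, Matrix.mul_apply, Matrix.map_apply, ← map_mul, ← map_sum,
      (isMat_genMat (n := n) (k := k)).antipode_mul i j, G, Matrix.one_apply]
    split_ifs <;> simp
  have hmap : G.map (conjHom k (GLn n k)) = P * (R * Q) := by
    ext i j
    rw [Matrix.map_apply, conjHom_apply_mat (isMat_genMat (n := n) (k := k)) i j, Matrix.mul_apply, Finset.sum_comm]
    refine Finset.sum_congr rfl fun p _ => ?_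
    rw [Matrix.mul_apply, Finset.mul_sum]
    refine Finset.sum_congr rfl fun q _ => ?_
    simp [P, Q, R, G, inL, inR, Algebra.TensorProduct.tmul_mul_tmul]
  have h1 : (G.map (conjHom k (GLn n k))).charpoly = R.charpoly := by
    rw [hmap, Matrix.charpoly_mul_comm, Matrix.mul_assoc, hQP, Matrix.mul_one]
  have h2 := congrArg (fun p : Polynomial _ => p.coeff m) h1
  simp only [R] at h2
  rw [← AlgHom.coe_toRingHom, Matrix.charpoly_map, Polynomial.coeff_map] at h2
  rw [← AlgHom.coe_toRingHom inR, Matrix.charpoly_map, Polynomial.coeff_map] at h2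
  exact h2

theorem charpoly_coeff_mem [IsAlgClosed k] [CharZero k] (m : ℕ) :
    (GLn.genMat n k).charpoly.coeff m ∈ Submodule.span k (charSet k (GLn n k)) := by
  obtain ⟨α, hα, h1⟩ := exists_isIntegral_GLn (n := n) (k := k)
  exact mem_span_of_conjHom (isLinearlyReductive_GLn n k) hα h1 (charpoly_coeff_conj m)

theorem dinv_mem_charSet : (GLn.Dinv : GLn n k) ∈ charSet k (GLn n k) := by
  have h : IsMat (k := k) fun (_ _ : Fin 1) => (GLn.Dinv : GLn n k) :=
    ⟨fun i j => by simp [GLn.comul_Dinv], fun i j => by simp [GLn.counit_Dinv, Subsingleton.elim i j]⟩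
  simpa using charOf_mem_of_isMat h

variable (n k) in
/-- The generic matrix with the inverse determinant as an extra diagonal block. -/
def blockMat : Matrix (Fin (n + 1)) (Fin (n + 1)) (GLn n k) :=
  Matrix.reindex finSumFinEquiv finSumFinEquiv
    (Matrix.fromBlocks (GLn.genMat n k) 0 0 (Matrix.of fun (_ _ : Fin 1) => (GLn.Dinv : GLn n k)))

theorem isMat_blockMat : IsMat (k := k) fun i j => blockMat n k i j := by
  refine isMat_reindex (finSumFinEquiv (m := n) (n := 1))
    (a := fun i j => Matrix.fromBlocks (GLn.genMat n k) 0 0 (Matrix.of fun (_ _ : Fin 1) => (GLn.Dinv : GLn n k)) i j)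
    ⟨fun i j => ?_, fun i j => ?_⟩
  · rcases i with i | i <;> rcases j with j | j <;>
      simp [Fintype.sum_sum_type, (isMat_genMat (n := n) (k := k)).comul, GLn.comul_Dinv]
  · rcases i with i | i <;> rcases j with j | j <;>
      simp [(isMat_genMat (n := n) (k := k)).counit, GLn.counit_Dinv, Fin.fin_one_eq_zero]

theorem charpoly_blockMat :
    (blockMat n k).charpoly = (GLn.genMat n k).charpoly * (Polynomial.X - Polynomial.C (GLn.Dinv : GLn n k)) := by
  rw [blockMat, Matrix.charpoly_reindex, Matrix.charpoly_fromBlocks_zero₂₁]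
  congr 1
  simp [Matrix.charpoly, Matrix.charmatrix]

theorem adjoin_blockMat :
    Algebra.adjoin k (Set.range fun p : Fin (n + 1) × Fin (n + 1) => blockMat n k p.1 p.2) = ⊤ := by
  refine eq_top_iff.2 ?_
  rintro a -
  obtain ⟨x, rfl⟩ := Ideal.Quotient.mk_surjective a
  change GLn.mk n k x ∈ _
  induction x using MvPolynomial.induction_on with
  | C c =>
    rw [show GLn.mk n k (MvPolynomial.C c) = algebraMap k _ c from (GLn.mk n k).commutes c]
    exact Subalgebra.algebraMap_mem _ c
  | add p q hp hq => exact (map_add (GLn.mk n k) p q).symm ▸ add_mem hp hq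
  | mul_X p i hp =>
    refine (map_mul (GLn.mk n k) p (MvPolynomial.X i)).symm ▸ mul_mem hp ?_
    rcases i with ⟨i, j⟩ | u
    · refine Algebra.subset_adjoin ⟨(finSumFinEquiv (Sum.inl i), finSumFinEquiv (Sum.inl j)), ?_⟩
      simp only [blockMat, Matrix.reindex_apply, Matrix.submatrix_apply, Equiv.symm_apply_apply,
        Matrix.fromBlocks_apply₁₁]
      rfl
    · refine Algebra.subset_adjoin ⟨(finSumFinEquiv (Sum.inr 0), finSumFinEquiv (Sum.inr 0)), ?_⟩
      simp only [blockMat, Matrix.reindex_apply, Matrix.submatrix_apply, Equiv.symm_apply_apply,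
        Matrix.fromBlocks_apply₂₂]
      rfl

end

end Groth.Agent.H20RepRing
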